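import Cfsg.Agent.Lib.HeldType.Amalgam.L52.Check0
import Cfsg.Agent.Lib.HeldType.Amalgam.Data

/-! Generated certificate: validity. -/

set_option autoImplicit false
set_option maxRecDepth 20000

namespace Cfsg.Lib.HeldType.Amalgam.L52

open Cfsg.Lib.CosetEnum

/-- The relators of this option. -/
def relators : List (List Nat) := relsL5 ++ [sharedL5.getD 2 []]

theorem cert_valid : cert.Valid relators where
  pos := by decide +kernel
  shifts := by decide +kernel
  defs := defs_0
  steps := steps_0
  closed := closed_0

end Cfsg.Lib.HeldType.Amalgam.L52
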