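import Cfsg.Agent.Lib.CosetEnum.Defs

/-! Generated table data. -/

set_option autoImplicit false
set_option maxRecDepth 20000

namespace Cfsg.Lib.HeldType.Amalgam.L52

open Cfsg.Lib.CosetEnum

/-- Table data. -/
def tabC_0 : Tab :=
  (.node 13 (.node 6 (.node 3 (.node 1 (.leaf 0x40000000000000013) (.node 1 (.leaf 0x40000000000000014) (.leaf 0x40000000000000015))) (.node 1 (.leaf 0x40000000000000016) (.node 1 (.leaf 0x40000000000000017) (.leaf 0x40000000000000018)))) (.node 3 (.node 1 (.leaf 0x40000e0000400000f0000300000d0000380001000003c0000c000044000060000000000e) (.node 1 (.leaf 0x10000000000e00003c0000c0000380000f0000000000700000400004) (.leaf 0x4000130000000000e0000300000d0000380000d0000000000800000400007))) (.node 2 (.node 1 (.leaf 0x10000000000e00003c000140000000000200000000002) (.leaf 0x1000004000000000340000e000034000000000040000700000800003)) (.node 1 (.leaf 0x400016000004000000000340000e000000000140000040000700000800008) (.leaf 0x4000170000580000100005400000000034000000000040000600000800009))))) (.node 7 (.node 3 (.node 1 (.leaf 0x400017000004000130000540000100005c0000100004c000150000040000a0000080000c) (.node 1 (.leaf 0x100000800013000050000130000080000500000c00001)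 (.leaf 0x1000008000000000400000c0000380000c000040000000000080000900000c0000a))) (.node 2 (.node 1 (.leaf 0x100001000019000060000190000100000500001400001) (.leaf 0x10000680001b00000800001000058000180000100000700001400005)) (.node 1 (.leaf 0x100001800002000054000020000180000500001c00000) (.leaf 0x4000060000680000200004c0000100006000019000004000020000180000a00001c0000b)))) (.node 3 (.node 1 (.leaf 0x100001c0000600007c0001e0000180001b00001c0000700002000006) (.node 1 (.leaf 0x40000a00008000007000068000020000500001300000c0000800002c0000a0000300000f) (.leaf 0x100002400005000064000180000100001c000074000070000280002100002c0000b0000240000d))) (.node 2 (.node 1 (.leaf 0x1000024000220000200000300001000010) (.leaf 0x10000140002300000c0000300000400012)) (.node 1 (.leaf 0x100005c000240000000000300000000011) (.leaf 0x1000094000240000000000300000000011))))))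

end Cfsg.Lib.HeldType.Amalgam.L52
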