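import Cfsg.Agent.Lib.HeldType.Amalgam.L52.Cert

/-! Generated checks. -/

set_option autoImplicit false
set_option maxRecDepth 20000

namespace Cfsg.Lib.HeldType.Amalgam.L52

open Cfsg.Lib.CosetEnum

theorem defs_0 : defsOK tabF 12 0 = true := by decide +kernel

theorem steps_0 : stepsOK relWords subWords tabF tabC 12 27 0 = true := by decide +kernel

theorem closed_0 : closedOK tabF tabZ tabP 39 1 8 [0, 1, 2, 3, 4, 5, 6, 7] 1 0 = true := by decide +kernel

end Cfsg.Lib.HeldType.Amalgam.L52
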