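import Cfsg.Agent.Lib.CosetEnum.Defs

/-! Generated table data. -/

set_option autoImplicit false
set_option maxRecDepth 20000

namespace Cfsg.Lib.HeldType.Amalgam.L52

open Cfsg.Lib.CosetEnum

/-- Table data. -/
def tabF_0 : Tab :=
  (.leaf 0x400000000001000001f00000000001000003f00000000003000009f00000000005000013f0000000000580001850000000000400001010000000000380000e10000000000380000e30000000000180000a10000000000280000a20000000000180000630000000000180000620000000000100000400000000000100000430000000000100000440000000000100000420000000000080000220000000000080000230000000000080000200000000000000000060000000000000000070000000000000000050000000000000000030000000000000000020000000000000000010000000000000000000000000000480001830000000000400001620000000000300001400000000000200001200000000000180001060000000000180000e00000000000100000c70000000000100000a5000000000008000087000000000008000065000000000008000041000000000000000024)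

end Cfsg.Lib.HeldType.Amalgam.L52
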